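import Groth.Agent.UnrStalkLib.Locus

/-!
# Unramified points and uniqueness of infinitesimal lifts
-/

set_option autoImplicit false
set_option linter.style.haveILetI false
universe u
open CategoryTheory CategoryTheory.Limits AlgebraicGeometry IsLocalRing
open RichLib.UnrLocus

noncomputable section

namespace UnrStalkLib

instance isLocalRing_tsze (S M : Type u) [CommRing S] [IsLocalRing S] [AddCommGroup M] [Module S M]
    [Module Sᵐᵒᵖ M] [IsCentralScalar S M] : IsLocalRing (TrivSqZeroExt S M) := by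
  refine IsLocalRing.of_isUnit_or_isUnit_one_sub_self fun a => ?_
  rw [TrivSqZeroExt.isUnit_iff_isUnit_fst, TrivSqZeroExt.isUnit_iff_isUnit_fst, TrivSqZeroExt.fst_sub,
    TrivSqZeroExt.fst_one]
  exact IsLocalRing.isUnit_or_isUnit_one_sub_self _

variable {X Y : Scheme.{u}} (f : X ⟶ Y)

theorem stalk_eq_of_lifts {x : X} {B : Type u} [CommRing B] [IsLocalRing B]
    (ψ₁ ψ₂ : X.presheaf.stalk x ⟶ CommRingCat.of B) :
    Spec.map ψ₁ ≫ X.fromSpecStalk x = Spec.map ψ₂ ≫ X.fromSpecStalk x ↔ ψ₁ = ψ₂ :=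
  ⟨fun h => Spec.map_injective ((cancel_mono (X.fromSpecStalk x)).mp h), fun h => by rw [h]⟩

theorem comp_stalkMap_eq_iff {x : X} {B : Type u} [CommRing B]
    (ψ₁ ψ₂ : X.presheaf.stalk x ⟶ CommRingCat.of B) :
    (Spec.map ψ₁ ≫ X.fromSpecStalk x) ≫ f = (Spec.map ψ₂ ≫ X.fromSpecStalk x) ≫ f ↔
      f.stalkMap x ≫ ψ₁ = f.stalkMap x ≫ ψ₂ := by
  rw [Category.assoc, Category.assoc, ← Scheme.SpecMap_stalkMap_fromSpecStalk, ← Category.assoc,
    ← Category.assoc, cancel_mono, ← Spec.map_comp, ← Spec.map_comp]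
  exact ⟨fun h => Spec.map_injective h, fun h => by rw [h]⟩

theorem exists_stalk_factor {x : X} {B : Type u} [CommRing B] [IsLocalRing B]
    (γ : Spec (CommRingCat.of B) ⟶ X) (h : γ (closedPoint B) = x) :
    ∃ ψ : X.presheaf.stalk x ⟶ CommRingCat.of B, Spec.map ψ ≫ X.fromSpecStalk x = γ := by
  subst h
  exact ⟨Scheme.stalkClosedPointTo γ, Scheme.Spec_stalkClosedPointTo_fromSpecStalk γ⟩

/-- Uniqueness of square-zero lifts at an unramified stalk. -/
theorem lifts_eq {x : X} (h : (f.stalkMap x).hom.FormallyUnramified) {B B' : Type u} [CommRing B] [CommRing B']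
    [IsLocalRing B] [IsLocalRing B'] (φ : B' →+* B) (hφ : Function.Surjective φ) (hI : RingHom.ker φ ^ 2 = ⊥)
    (γ₁ γ₂ : Spec (CommRingCat.of B') ⟶ X)
    (hx : (Spec.map (CommRingCat.ofHom φ) ≫ γ₁) (closedPoint B) = x)
    (hα : Spec.map (CommRingCat.ofHom φ) ≫ γ₁ = Spec.map (CommRingCat.ofHom φ) ≫ γ₂)
    (hβ : γ₁ ≫ f = γ₂ ≫ f) : γ₁ = γ₂ := by
  haveI : IsLocalHom φ := hφ.isLocalHom
  have hc : (Spec.map (CommRingCat.ofHom φ)) (closedPoint B) = closedPoint B' :=
    IsLocalRing.comap_closedPoint φ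
  have h1 : γ₁ (closedPoint B') = x := by rw [← hc, ← Scheme.Hom.comp_apply]; exact hx
  have h2 : γ₂ (closedPoint B') = x := by rw [← hc, ← Scheme.Hom.comp_apply, ← hα]; exact hx
  obtain ⟨ψ₁, rfl⟩ := exists_stalk_factor γ₁ h1
  obtain ⟨ψ₂, rfl⟩ := exists_stalk_factor γ₂ h2
  rw [← Category.assoc, ← Category.assoc, ← Spec.map_comp, ← Spec.map_comp] at hα
  have hα' : ψ₁ ≫ CommRingCat.ofHom φ = ψ₂ ≫ CommRingCat.ofHom φ := (stalk_eq_of_lifts _ _).mp hα
  have hβ' := (comp_stalkMap_eq_iff f ψ₁ ψ₂).mp hβ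
  let := (f.stalkMap x).hom.toAlgebra
  haveI : Algebra.FormallyUnramified (Y.presheaf.stalk (f x)) (X.presheaf.stalk x) := h
  let : Algebra (Y.presheaf.stalk (f x)) B' := (ψ₁.hom.comp (f.stalkMap x).hom).toAlgebra
  let g₁ : X.presheaf.stalk x →ₐ[Y.presheaf.stalk (f x)] B' := { toRingHom := ψ₁.hom, commutes' := fun _ => rfl }
  let g₂ : X.presheaf.stalk x →ₐ[Y.presheaf.stalk (f x)] B' :=
    { toRingHom := ψ₂.hom, commutes' := fun r => (congr($hβ' r)).symm }
  have hg : g₁ = g₂ := Algebra.FormallyUnramified.ext (R := Y.presheaf.stalk (f x)) (RingHom.ker φ)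
    ⟨2, hI⟩ fun a => Ideal.Quotient.eq.mpr (by
      rw [RingHom.mem_ker, map_sub, sub_eq_zero]
      exact congr($hα' a))
  rw [stalk_eq_of_lifts]
  exact CommRingCat.hom_ext (RingHom.ext fun a => congr($hg a))

/-- Unique lifting to the trivial square-zero extensions forces an unramified stalk. -/
theorem formallyUnramified_of_lifts {x : X}
    (H : ∀ (B B' : Type u) [CommRing B] [CommRing B'] [IsLocalRing B] [IsLocalRing B'] (φ : B' →+* B),
      Function.Surjective φ → RingHom.ker φ ^ 2 = ⊥ →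
      ∀ (α : Spec (CommRingCat.of B) ⟶ X) (β : Spec (CommRingCat.of B') ⟶ Y),
        α.base (IsLocalRing.closedPoint B) = x → Spec.map (CommRingCat.ofHom φ) ≫ β = α ≫ f →
        ∀ γ₁ γ₂ : Spec (CommRingCat.of B') ⟶ X,
          Spec.map (CommRingCat.ofHom φ) ≫ γ₁ = α → γ₁ ≫ f = β →
          Spec.map (CommRingCat.ofHom φ) ≫ γ₂ = α → γ₂ ≫ f = β → γ₁ = γ₂) :
    (f.stalkMap x).hom.FormallyUnramified := by
  let := (f.stalkMap x).hom.toAlgebra
  let R := Y.presheaf.stalk (f x)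
  let S := X.presheaf.stalk x
  let M := Ω[S⁄R]
  letI : Module Sᵐᵒᵖ M := Module.compHom M ((RingHom.id S).fromOpposite mul_comm)
  haveI : IsCentralScalar S M := ⟨fun _ _ => rfl⟩
  let D := KaehlerDifferential.D R S
  let φ : TrivSqZeroExt S M →+* S := (TrivSqZeroExt.fstHom S S M).toRingHom
  let a₁ : S →+* TrivSqZeroExt S M := TrivSqZeroExt.inlHom S M
  let a₂ : S →+* TrivSqZeroExt S M :=
    { toFun := fun s => TrivSqZeroExt.inl s + TrivSqZeroExt.inr (D s)
      map_zero' := by simp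
      map_one' := by simp
      map_add' := fun a b => by ext <;> simp
      map_mul' := fun a b => by ext <;> simp [Derivation.leibniz] }
  have hsurj : Function.Surjective φ := fun s => ⟨TrivSqZeroExt.inl s, rfl⟩
  have hker : RingHom.ker φ ^ 2 = ⊥ := by
    rw [pow_two, eq_bot_iff, Ideal.mul_le]
    intro a ha b hb
    have ha' : a.fst = 0 := ha
    have hb' : b.fst = 0 := hb
    rw [Ideal.mem_bot]
    ext <;> simp [ha', hb']
  let γ₁ := Spec.map (CommRingCat.ofHom a₁) ≫ X.fromSpecStalk x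
  let γ₂ := Spec.map (CommRingCat.ofHom a₂) ≫ X.fromSpecStalk x
  have hp1 : Spec.map (CommRingCat.ofHom φ) ≫ γ₁ = X.fromSpecStalk x := by
    have e : CommRingCat.ofHom a₁ ≫ CommRingCat.ofHom φ = 𝟙 S := rfl
    rw [← Category.assoc, ← Spec.map_comp, e]
    exact (congrArg (· ≫ X.fromSpecStalk x) (Spec.map_id _)).trans (Category.id_comp _)
  have hp2 : Spec.map (CommRingCat.ofHom φ) ≫ γ₂ = X.fromSpecStalk x := by
    have e : CommRingCat.ofHom a₂ ≫ CommRingCat.ofHom φ = 𝟙 S :=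
      CommRingCat.hom_ext (RingHom.ext fun s => show (TrivSqZeroExt.inl s + TrivSqZeroExt.inr (D s)).fst = s by simp)
    rw [← Category.assoc, ← Spec.map_comp, e]
    exact (congrArg (· ≫ X.fromSpecStalk x) (Spec.map_id _)).trans (Category.id_comp _)
  have hb : γ₁ ≫ f = γ₂ ≫ f := (comp_stalkMap_eq_iff f _ _).mpr (CommRingCat.hom_ext (RingHom.ext fun r =>
    show TrivSqZeroExt.inl (algebraMap R S r) =
      TrivSqZeroExt.inl (algebraMap R S r) + TrivSqZeroExt.inr (D (algebraMap R S r)) by simp [D]))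
  have heq := H S (TrivSqZeroExt S M) φ hsurj hker (X.fromSpecStalk x) (γ₁ ≫ f)
    Scheme.fromSpecStalk_closedPoint (by rw [← Category.assoc, hp1]) γ₁ γ₂ hp1 rfl hp2 hb.symm
  have h12 := (stalk_eq_of_lifts _ _).mp heq
  show Algebra.FormallyUnramified R S
  refine (Algebra.formallyUnramified_iff (R := R) (A := S)).mpr (subsingleton_of_forall_eq 0 fun w => ?_)
  have hw : w ∈ Submodule.span S (Set.range D) := by
    rw [KaehlerDifferential.span_range_derivation]; trivial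
  induction hw using Submodule.span_induction with
  | mem y hy =>
    obtain ⟨s, rfl⟩ := hy
    have h0 : (TrivSqZeroExt.inl s + TrivSqZeroExt.inr (D s) : TrivSqZeroExt S M).snd =
        (TrivSqZeroExt.inl s : TrivSqZeroExt S M).snd := congr(($h12 s).snd).symm
    simpa using h0
  | zero => rfl
  | add y z _ _ hy hz => rw [hy, hz, add_zero]
  | smul a y _ hy => rw [hy, smul_zero]

theorem mem_locus_iff_lifts [LocallyOfFiniteType f] (x : X) :
    x ∈ locus f ↔
      ∀ (B B' : Type u) [CommRing B] [CommRing B'] [IsLocalRing B] [IsLocalRing B'] (φ : B' →+* B),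
      Function.Surjective φ → RingHom.ker φ ^ 2 = ⊥ →
      ∀ (α : Spec (CommRingCat.of B) ⟶ X) (β : Spec (CommRingCat.of B') ⟶ Y),
        α.base (IsLocalRing.closedPoint B) = x → Spec.map (CommRingCat.ofHom φ) ≫ β = α ≫ f →
        ∀ γ₁ γ₂ : Spec (CommRingCat.of B') ⟶ X,
          Spec.map (CommRingCat.ofHom φ) ≫ γ₁ = α → γ₁ ≫ f = β →
          Spec.map (CommRingCat.ofHom φ) ≫ γ₂ = α → γ₂ ≫ f = β → γ₁ = γ₂ := by
  rw [mem_locus_iff_stalkMap]
  exact ⟨fun h B B' _ _ _ _ φ hs hI α β hx _ γ₁ γ₂ h1 h1' h2 h2' =>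
    lifts_eq f h φ hs hI γ₁ γ₂ (by rw [h1]; exact hx) (h1.trans h2.symm) (h1'.trans h2'.symm),
    formallyUnramified_of_lifts f⟩

end UnrStalkLib

end
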