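import Groth.Agent.UnrStalkLib.Lifts

/-!
# The dual-number criterion over an algebraically closed field
-/

set_option autoImplicit false
set_option linter.style.haveILetI false
universe u
open CategoryTheory CategoryTheory.Limits AlgebraicGeometry IsLocalRing TensorProduct
open RichLib.UnrLocus

noncomputable section

namespace UnrStalkLib

variable {k : Type u} [Field k] {X : Scheme.{u}} (p : X ⟶ Spec (CommRingCat.of k))

theorem formallyUnramified_of_dualNumber {x : X} [LocallyOfFiniteType p]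
    (σ : Spec (CommRingCat.of k) ⟶ X) (hσx : σ (closedPoint k) = x) (hσ : σ ≫ p = 𝟙 _)
    (H : ∀ v₁ v₂ : Spec (CommRingCat.of (DualNumber k)) ⟶ X,
        v₁ ≫ p = Spec.map (CommRingCat.ofHom (algebraMap k (DualNumber k))) →
        v₂ ≫ p = Spec.map (CommRingCat.ofHom (algebraMap k (DualNumber k))) →
        Spec.map (CommRingCat.ofHom (TrivSqZeroExt.fstHom k k k).toRingHom) ≫ v₁ =
          Spec.map (CommRingCat.ofHom (TrivSqZeroExt.fstHom k k k).toRingHom) ≫ v₂ →
        v₁ = v₂) :
    (p.stalkMap x).hom.FormallyUnramified := by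
  let := (p.stalkMap x).hom.toAlgebra
  let R := (Spec (CommRingCat.of k)).presheaf.stalk (p x)
  let S := X.presheaf.stalk x
  let κ := ResidueField S
  haveI : Algebra.EssFiniteType R S := by
    rw [← RingHom.essFiniteType_algebraMap, RingHom.algebraMap_toAlgebra]
    exact LocallyOfFiniteType.stalkMap p x
  show Algebra.FormallyUnramified R S
  subst hσx
  let ρ : S →+* k := (Scheme.stalkClosedPointTo σ).hom
  have hρ : Spec.map (CommRingCat.ofHom ρ) ≫ X.fromSpecStalk _ = σ :=
    Scheme.Spec_stalkClosedPointTo_fromSpecStalk σ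
  haveI : IsLocalHom ρ := Scheme.isLocalHom_stalkClosedPointTo σ
  let e : κ →+* k := IsLocalRing.ResidueField.lift ρ
  refine (Algebra.formallyUnramified_iff (R := R) (A := S)).mpr ?_
  rw [← IsLocalRing.subsingleton_tensorProduct (R := S) (M := Ω[S⁄R])]
  by_contra hne
  rw [not_subsingleton_iff_nontrivial] at hne
  obtain ⟨v, hv⟩ := exists_ne (0 : κ ⊗[S] Ω[S⁄R])
  obtain ⟨L, hL⟩ : ∃ L : Module.Dual κ (κ ⊗[S] Ω[S⁄R]), L v ≠ 0 := by
    by_contra hcon
    push Not at hcon
    exact hv ((Module.forall_dual_apply_eq_zero_iff κ v).mp hcon)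
  let δ : S → k := fun s => e (L ((1 : κ) ⊗ₜ KaehlerDifferential.D R S s))
  have hadd : ∀ s t, δ (s + t) = δ s + δ t := fun s t => by simp [δ, TensorProduct.tmul_add]
  have hsmul : ∀ (s : S) (w : Ω[S⁄R]), e (L ((1 : κ) ⊗ₜ (s • w))) = ρ s * e (L ((1 : κ) ⊗ₜ w)) := fun s w => by
    rw [TensorProduct.tmul_smul, ← algebraMap_smul κ s ((1 : κ) ⊗ₜ[S] w), map_smul, smul_eq_mul, map_mul]
    rfl
  have hmul : ∀ s t, δ (s * t) = ρ s * δ t + ρ t * δ s := fun s t => by
    show e (L ((1 : κ) ⊗ₜ KaehlerDifferential.D R S (s * t))) = _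
    rw [Derivation.leibniz, TensorProduct.tmul_add, map_add, map_add, hsmul, hsmul]
  have halg : ∀ r : R, δ (algebraMap R S r) = 0 := fun r => by simp [δ]
  let a₁ : S →+* DualNumber k := (TrivSqZeroExt.inlHom k k).comp ρ
  let a₂ : S →+* DualNumber k :=
    { toFun := fun s => TrivSqZeroExt.inl (ρ s) + TrivSqZeroExt.inr (δ s)
      map_zero' := by ext <;> simp [δ]
      map_one' := by ext <;> simp [δ]
      map_add' := fun a b => by ext <;> simp [hadd]
      map_mul' := fun a b => by ext <;> simp [hmul] <;> ring }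
  let v₁ := Spec.map (CommRingCat.ofHom a₁) ≫ X.fromSpecStalk (σ (closedPoint k))
  let v₂ := Spec.map (CommRingCat.ofHom a₂) ≫ X.fromSpecStalk (σ (closedPoint k))
  have hv1 : v₁ = Spec.map (CommRingCat.ofHom (algebraMap k (DualNumber k))) ≫ σ := by
    conv_rhs => rw [← hρ]
    rw [← Category.assoc, ← Spec.map_comp]
    rfl
  have hp1 : v₁ ≫ p = Spec.map (CommRingCat.ofHom (algebraMap k (DualNumber k))) := by
    rw [hv1, Category.assoc, hσ, Category.comp_id]
  have hb : v₁ ≫ p = v₂ ≫ p := (comp_stalkMap_eq_iff p _ _).mpr (CommRingCat.hom_ext (RingHom.ext fun r =>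
    show TrivSqZeroExt.inl (ρ (algebraMap R S r)) =
      (TrivSqZeroExt.inl (ρ (algebraMap R S r)) + TrivSqZeroExt.inr (δ (algebraMap R S r)) : DualNumber k) by
      rw [halg]; simp))
  have hfst : Spec.map (CommRingCat.ofHom (TrivSqZeroExt.fstHom k k k).toRingHom) ≫ v₁ =
      Spec.map (CommRingCat.ofHom (TrivSqZeroExt.fstHom k k k).toRingHom) ≫ v₂ := by
    rw [← Category.assoc, ← Category.assoc, ← Spec.map_comp, ← Spec.map_comp]
    congr 2
    exact CommRingCat.hom_ext (RingHom.ext fun s =>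
      show ρ s = (TrivSqZeroExt.inl (ρ s) + TrivSqZeroExt.inr (δ s) : DualNumber k).fst by simp)
  have h12 := (stalk_eq_of_lifts _ _).mp (H v₁ v₂ hp1 (hb ▸ hp1) hfst)
  have hδ : ∀ s, δ s = 0 := fun s => by
    have h0 : (TrivSqZeroExt.inl (ρ s) + TrivSqZeroExt.inr (δ s) : DualNumber k).snd =
        (TrivSqZeroExt.inl (ρ s) : DualNumber k).snd := congr(($h12 s).snd).symm
    simpa using h0
  refine hL (e.injective (Eq.trans ?_ (map_zero e).symm))
  suffices h : ∀ w : Ω[S⁄R], e (L ((1 : κ) ⊗ₜ w)) = 0 by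
    clear hv hL
    induction v using TensorProduct.induction_on with
    | zero => simp
    | tmul c w =>
      rw [show c ⊗ₜ[S] w = c • ((1 : κ) ⊗ₜ[S] w) by rw [TensorProduct.smul_tmul', smul_eq_mul, mul_one],
        map_smul, smul_eq_mul, map_mul, h, mul_zero]
    | add a b ha hb => rw [map_add, map_add, ha, hb, add_zero]
  intro w
  have hw : w ∈ Submodule.span S (Set.range (KaehlerDifferential.D R S)) := by
    rw [KaehlerDifferential.span_range_derivation]; trivial
  induction hw using Submodule.span_induction with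
  | mem y hy => obtain ⟨s, rfl⟩ := hy; exact hδ s
  | zero => simp
  | add y z _ _ hy hz => rw [TensorProduct.tmul_add, map_add, map_add, hy, hz, add_zero]
  | smul a y _ hy => rw [hsmul, hy, mul_zero]

theorem formallyUnramified_iff_dualNumber [IsAlgClosed k] [LocallyOfFiniteType p] :
    FormallyUnramified p ↔
      ∀ v₁ v₂ : Spec (CommRingCat.of (DualNumber k)) ⟶ X,
        v₁ ≫ p = Spec.map (CommRingCat.ofHom (algebraMap k (DualNumber k))) →
        v₂ ≫ p = Spec.map (CommRingCat.ofHom (algebraMap k (DualNumber k))) →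
        Spec.map (CommRingCat.ofHom (TrivSqZeroExt.fstHom k k k).toRingHom) ≫ v₁ =
          Spec.map (CommRingCat.ofHom (TrivSqZeroExt.fstHom k k k).toRingHom) ≫ v₂ →
        v₁ = v₂ := by
  constructor
  · intro hp v₁ v₂ h1 h2 h12
    refine lifts_eq p (x := (Spec.map (CommRingCat.ofHom (TrivSqZeroExt.fstHom k k k).toRingHom) ≫ v₁)
      (closedPoint k)) (AlgebraicGeometry.FormallyUnramified.stalkMap p _)
      (TrivSqZeroExt.fstHom k k k).toRingHom (fun c => ⟨TrivSqZeroExt.inl c, rfl⟩) ?_ v₁ v₂ rfl h12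
      (h1.trans h2.symm)
    rw [pow_two, eq_bot_iff, Ideal.mul_le]
    intro a ha b hb
    have ha' : a.fst = 0 := ha
    have hb' : b.fst = 0 := hb
    rw [Ideal.mem_bot]
    ext <;> simp [ha', hb']
  · intro H
    haveI : JacobsonSpace ↥X := LocallyOfFiniteType.jacobsonSpace p
    refine (locus_eq_univ_iff p).mp ?_
    by_contra hne
    obtain ⟨x, hx, hxc⟩ := nonempty_inter_closedPoints (Set.nonempty_compl.mpr hne)
      (isOpen_locus p).isClosed_compl.isLocallyClosed
    exact hx (mem_locus_of_stalkMap p (formallyUnramified_of_dualNumber p (pointOfClosedPoint p x hxc)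
      (pointOfClosedPoint_apply p x hxc _) (pointOfClosedPoint_comp p x hxc) H))

end UnrStalkLib

end
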