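import Groth.Agent.UnrStalkLib.Locus
import Groth.Agent.OmegaAffLib.Consequences

/-!
# The unramified locus is where the differentials vanish
-/

set_option autoImplicit false
set_option linter.style.haveILetI false
universe u
open CategoryTheory CategoryTheory.Limits AlgebraicGeometry TopologicalSpace Opposite
open RichLib.UnrLocus

noncomputable section

namespace UnrStalkLib

variable {X Y : Scheme.{u}} (f : X ⟶ Y)

theorem formallyUnramified_ι_comp_iff {V : Y.Opens} (hV : IsAffineOpen V) {W : X.Opens} (hW : IsAffineOpen W)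
    (e : W ≤ f ⁻¹ᵁ V) : FormallyUnramified (W.ι ≫ f) ↔ (f.appLE V W e).hom.FormallyUnramified := by
  haveI : IsAffine (V : Scheme.{u}) := hV
  haveI : IsAffine (W : Scheme.{u}) := hW
  rw [← Scheme.Hom.resLE_comp_ι f e]
  have h1 : FormallyUnramified (f.resLE V W e ≫ V.ι) ↔ FormallyUnramified (f.resLE V W e) :=
    ⟨fun _ => FormallyUnramified.of_comp _ V.ι, fun h => MorphismProperty.comp_mem _ _ _ h inferInstance⟩
  rw [h1, HasRingHomProperty.iff_of_isAffine (P := @FormallyUnramified)]
  exact RingHom.FormallyUnramified.respectsIso.arrow_mk_iso_iff (arrowResLEAppIso f V W e)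

variable {f} {Ω' : X.Modules} {d : OmegaSh.Der f Ω'}

theorem subsingleton_stalk_iff_mem_locus [LocallyOfFiniteType f] (hd : OmegaSh.IsUniversal d) (x : X) :
    Subsingleton (Ω'.presheaf.stalk x) ↔ x ∈ locus f := by
  haveI := OmegaAffLib.isQCoh_of_isUniversal hd
  constructor
  · intro hx
    have hS := QCohLib.isClosed_support Ω' (OmegaAffLib.isFT_of_isUniversal hd)
    let W : X.Opens := ⟨(CohB1.support Ω')ᶜ, hS.isOpen_compl⟩
    obtain ⟨U, ⟨hU, V, hV, e⟩, hxU, hle⟩ :=
      OmegaAffLib.exists_good (f := f) (show x ∈ W from fun h => h hx)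
    refine ⟨U, hxU, (formallyUnramified_ι_comp_iff f hV hU e).mpr ?_⟩
    let := (f.appLE V U e).hom.toAlgebra
    obtain ⟨φ, -⟩ := OmegaAffLib.exists_equiv hd hV hU e
    haveI : Subsingleton Γ(Ω', U) := subsingleton_of_forall_eq 0 fun t => by
      refine ModGlueLib.eq_of_locally t 0 fun y hy => ?_
      obtain ⟨W', hW', hyW', hz⟩ := (QCohLib.subsingleton_stalk_iff Ω' y).mp (not_not.mp (hle hy)) U hy t
      exact ⟨W', hW', hyW', hz.trans (ModGlueLib.rs_zero Ω' hW').symm⟩
    exact (Algebra.formallyUnramified_iff (R := Γ(Y, V)) (A := Γ(X, U))).mpr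
      (φ.toEquiv.subsingleton_congr.mpr inferInstance)
  · rintro ⟨U, hxU, hU⟩
    refine (QCohLib.subsingleton_stalk_iff Ω' x).mpr fun U₀ hx₀ t => ?_
    obtain ⟨W, ⟨hW, V, hV, e⟩, hxW, hle⟩ := OmegaAffLib.exists_good (f := f) (show x ∈ U₀ ⊓ U from ⟨hx₀, hxU⟩)
    refine ⟨W, hle.trans inf_le_left, hxW, ?_⟩
    have hWf : FormallyUnramified (W.ι ≫ f) := by
      rw [← X.homOfLE_ι (hle.trans inf_le_right : W ≤ U), Category.assoc]
      exact MorphismProperty.comp_mem _ _ _ inferInstance hU
    let := (f.appLE V W e).hom.toAlgebra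
    haveI : Algebra.FormallyUnramified Γ(Y, V) Γ(X, W) := (formallyUnramified_ι_comp_iff f hV hW e).mp hWf
    obtain ⟨φ, -⟩ := OmegaAffLib.exists_equiv hd hV hW e
    haveI : Subsingleton Γ(Ω', W) := φ.toEquiv.subsingleton_congr.mp inferInstance
    exact Subsingleton.elim _ _

end UnrStalkLib

end
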