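import Mathlib

/-!
# Unramified algebras over a field
-/

set_option autoImplicit false
universe u
open Polynomial

noncomputable section

namespace UnrStalkLib

variable (k A : Type u) [Field k] [CommRing A] [Algebra k A]

theorem d_eq_zero_of_separable (x : A) (hx : IsSeparable k x) : KaehlerDifferential.D k A x = 0 := by
  obtain ⟨a, b, hab⟩ := (show (minpoly k x).Separable from hx)
  have h1 := congrArg (aeval x) hab
  rw [map_add, map_mul, map_mul, minpoly.aeval, mul_zero, zero_add, map_one] at h1
  have h2 := Derivation.map_aeval (KaehlerDifferential.D k A) (minpoly k x) x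
  rw [minpoly.aeval, map_zero] at h2
  calc KaehlerDifferential.D k A x
      = (aeval x b * aeval x (derivative (minpoly k x))) • KaehlerDifferential.D k A x := by rw [h1, one_smul]
    _ = 0 := by rw [mul_smul, ← h2, smul_zero]

theorem formallyUnramified_of_separable [Algebra.IsSeparable k A] : Algebra.FormallyUnramified k A := by
  refine (Algebra.formallyUnramified_iff (R := k) (A := A)).mpr (subsingleton_of_forall_eq 0 fun w => ?_)
  have hw : w ∈ Submodule.span A (Set.range (KaehlerDifferential.D k A)) := by
    rw [KaehlerDifferential.span_range_derivation]; trivial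
  induction hw using Submodule.span_induction with
  | mem y hy =>
    obtain ⟨x, rfl⟩ := hy
    exact d_eq_zero_of_separable k A x (Algebra.IsSeparable.isSeparable k x)
  | zero => rfl
  | add y z _ _ hy hz => rw [hy, hz, add_zero]
  | smul a y _ hy => rw [hy, smul_zero]

theorem isSeparable_of_formallyUnramified [Algebra.FormallyUnramified k A] [Algebra.EssFiniteType k A] :
    Algebra.IsSeparable k A := by
  classical
  haveI : Module.Finite k A := Algebra.FormallyUnramified.finite_of_free k A
  haveI : _root_.IsReduced A := Algebra.FormallyUnramified.isReduced_of_field k A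
  haveI : IsArtinianRing A := IsArtinianRing.of_finite k A
  haveI := Fintype.ofFinite (MaximalSpectrum A)
  refine ⟨fun x => ?_⟩
  let q : MaximalSpectrum A → k[X] := fun I => minpoly k (Ideal.Quotient.mk I.asIdeal x)
  have hint : ∀ I : MaximalSpectrum A, IsIntegral k (Ideal.Quotient.mk I.asIdeal x) := fun I =>
    IsIntegral.of_finite k _
  have hq : ∀ I, Irreducible (q I) ∧ (q I).Separable ∧ (q I).Monic := fun I => by
    letI := Ideal.Quotient.field I.asIdeal
    haveI : Algebra.IsSeparable k (A ⧸ I.asIdeal) := Algebra.FormallyUnramified.isSeparable k _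
    exact ⟨minpoly.irreducible (hint I), Algebra.IsSeparable.isSeparable k _, minpoly.monic (hint I)⟩
  let s : Finset k[X] := Finset.univ.image q
  have hmem : ∀ p ∈ s, Irreducible p ∧ p.Separable ∧ p.Monic := fun p hp => by
    obtain ⟨I, -, rfl⟩ := Finset.mem_image.mp hp
    exact hq I
  have hP : (∏ p ∈ s, p).Separable := separable_prod'
    (fun p hp p' hp' hne => ((hmem p hp).1.coprime_iff_not_dvd).mpr fun hdvd => hne
      (eq_of_monic_of_associated (hmem p hp).2.2 (hmem p' hp').2.2
        ((hmem p hp).1.associated_of_dvd (hmem p' hp').1 hdvd)))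
    fun p hp => (hmem p hp).2.1
  refine hP.of_dvd (minpoly.dvd k x ((IsArtinianRing.equivPi A).injective ?_))
  rw [map_zero]
  funext I
  rw [IsArtinianRing.equivPi_apply, Pi.zero_apply]
  show Ideal.Quotient.mkₐ k I.asIdeal (aeval x (∏ p ∈ s, p)) = 0
  rw [← aeval_algHom_apply]
  exact aeval_eq_zero_of_dvd_aeval_eq_zero (Finset.dvd_prod_of_mem (fun p : k[X] => p)
    (Finset.mem_image_of_mem q (Finset.mem_univ I))) (minpoly.aeval k _)

end UnrStalkLib

end
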