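import Groth.Agent.UnrStalkLib.Locus
import Groth.Agent.UnrStalkLib.Field

/-!
# Unramified schemes over a perfect field and geometric fibres
-/

set_option autoImplicit false
set_option linter.style.haveILetI false
universe u
open CategoryTheory CategoryTheory.Limits AlgebraicGeometry TopologicalSpace
open RichLib.UnrLocus

noncomputable section

namespace UnrStalkLib

variable (k : Type u) [Field k] {X : Scheme.{u}} (p : X ⟶ Spec (CommRingCat.of k))

abbrev structHom (U : X.Opens) : k →+* Γ(X, U) :=
  ((Scheme.ΓSpecIso (CommRingCat.of k)).inv ≫ p.appLE ⊤ U le_top).hom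

theorem formallyUnramified_structHom_iff (U : X.Opens) :
    (structHom k p U).FormallyUnramified ↔ (p.appLE ⊤ U le_top).hom.FormallyUnramified :=
  RingHom.FormallyUnramified.respectsIso.cancel_left_isIso _ _

theorem finiteType_structHom [LocallyOfFiniteType p] {U : X.Opens} (hU : IsAffineOpen U) :
    (structHom k p U).FiniteType :=
  (RingHom.finiteType_respectsIso.cancel_left_isIso (Scheme.ΓSpecIso (CommRingCat.of k)).inv
    (p.appLE ⊤ U le_top)).mpr (p.finiteType_appLE (isAffineOpen_top _) hU le_top)

theorem discreteTopology_of_affine_cover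
    (h : ∀ U : X.Opens, IsAffineOpen U → DiscreteTopology (PrimeSpectrum Γ(X, U))) : DiscreteTopology X := by
  refine discreteTopology_iff_isOpen_singleton.mpr fun x => ?_
  obtain ⟨U, hU, hxU, -⟩ := exists_isAffineOpen_mem_and_subset (X := X) (U := ⊤) (x := x) trivial
  haveI := h U hU
  have h1 : IsOpen (hU.fromSpec '' {hU.primeIdealOf ⟨x, hxU⟩}) :=
    hU.fromSpec.isOpenEmbedding.isOpenMap _ (isOpen_discrete (α := PrimeSpectrum Γ(X, U)) _)
  have h2 : hU.fromSpec '' {hU.primeIdealOf ⟨x, hxU⟩} = ({x} : Set X) :=
    Set.image_singleton.trans (congrArg (fun y => ({y} : Set X)) (hU.fromSpec_primeIdealOf ⟨x, hxU⟩))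
  exact h2 ▸ h1

/-- Over a perfect field, unramified means reduced and discrete. -/
theorem formallyUnramified_field_iff [PerfectField k] [LocallyOfFiniteType p] :
    FormallyUnramified p ↔ (IsReduced X ∧ DiscreteTopology X) := by
  constructor
  · intro hp
    have key : ∀ U : X.Opens, IsAffineOpen U →
        _root_.IsReduced Γ(X, U) ∧ DiscreteTopology (PrimeSpectrum Γ(X, U)) := fun U hU => by
      let := (structHom k p U).toAlgebra
      haveI : Algebra.FiniteType k Γ(X, U) := finiteType_structHom k p hU
      haveI : Algebra.FormallyUnramified k Γ(X, U) :=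
        (formallyUnramified_structHom_iff k p U).mpr (p.formallyUnramified_appLE (isAffineOpen_top _) hU le_top)
      haveI : Module.Finite k Γ(X, U) := Algebra.FormallyUnramified.finite_of_free k _
      haveI : IsArtinianRing Γ(X, U) := IsArtinianRing.of_finite k _
      exact ⟨Algebra.FormallyUnramified.isReduced_of_field k _, inferInstance⟩
    refine ⟨?_, discreteTopology_of_affine_cover fun U hU => (key U hU).2⟩
    haveI : ∀ x : X, _root_.IsReduced (X.presheaf.stalk x) := fun x => by
      obtain ⟨U, hU, hxU, -⟩ := exists_isAffineOpen_mem_and_subset (X := X) (U := ⊤) (x := x) trivial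
      haveI := (key U hU).1
      let := X.presheaf.algebra_section_stalk ⟨x, hxU⟩
      have : IsLocalization.AtPrime (X.presheaf.stalk x) (hU.primeIdealOf ⟨x, hxU⟩).asIdeal :=
        hU.isLocalization_stalk ⟨x, hxU⟩
      exact isReduced_localizationPreserves (hU.primeIdealOf ⟨x, hxU⟩).asIdeal.primeCompl _ inferInstance
    exact isReduced_of_isReduced_stalk X
  · rintro ⟨_, _⟩
    refine (HasRingHomProperty.iff_exists_appLE (P := @FormallyUnramified)
      (RingHom.FormallyUnramified.stableUnderComposition.stableUnderCompositionWithLocalizationAway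
        RingHom.FormallyUnramified.holdsForLocalizationAway).left).mpr fun x => ?_
    obtain ⟨U, hU, hxU, -⟩ := exists_isAffineOpen_mem_and_subset (X := X) (U := ⊤) (x := x) trivial
    refine ⟨⟨⊤, isAffineOpen_top _⟩, ⟨U, hU⟩, hxU, le_top, ?_⟩
    rw [← formallyUnramified_structHom_iff k p U]
    let := (structHom k p U).toAlgebra
    haveI : Algebra.FiniteType k Γ(X, U) := finiteType_structHom k p hU
    haveI : IsNoetherianRing Γ(X, U) := Algebra.FiniteType.isNoetherianRing k _
    haveI : DiscreteTopology (PrimeSpectrum Γ(X, U)) :=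
      DiscreteTopology.of_continuous_injective hU.fromSpec.continuous hU.fromSpec.isOpenEmbedding.injective
    haveI : IsArtinianRing Γ(X, U) := isArtinianRing_iff_krullDimLE_zero.mpr
      (PrimeSpectrum.discreteTopology_iff_finite_and_krullDimLE_zero.mp inferInstance).2
    haveI : Module.Finite k Γ(X, U) := (Module.finite_iff_isArtinianRing k _).mpr inferInstance
    haveI : _root_.IsReduced Γ(X, U) := IsReduced.component_reduced U
    haveI : ∀ I : MaximalSpectrum Γ(X, U), Algebra.FormallyUnramified k (Γ(X, U) ⧸ I.asIdeal) := fun I => by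
      letI := Ideal.Quotient.field I.asIdeal
      exact Algebra.FormallyUnramified.of_isSeparable k (Γ(X, U) ⧸ I.asIdeal)
    show Algebra.FormallyUnramified k Γ(X, U)
    exact Algebra.FormallyUnramified.of_equiv ((IsArtinianRing.equivPi Γ(X, U)).restrictScalars k).symm

theorem formallyUnramified_iff_geometricFibres {S : Scheme.{u}} (f : X ⟶ S) [LocallyOfFiniteType f] :
    FormallyUnramified f ↔
      ∀ (K : Type u) [Field K] [IsAlgClosed K] (s : Spec (CommRingCat.of K) ⟶ S),
        IsReduced (pullback f s) ∧ DiscreteTopology ↥(pullback f s) := by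
  constructor
  · intro hf K _ _ s
    exact (formallyUnramified_field_iff K (pullback.snd f s)).mp (MorphismProperty.pullback_snd f s hf)
  · intro H
    refine (locus_eq_univ_iff f).mp (Set.eq_univ_iff_forall.mpr fun x => ?_)
    let K := AlgebraicClosure (S.residueField (f x))
    let s : Spec (CommRingCat.of K) ⟶ S :=
      Spec.map (CommRingCat.ofHom (algebraMap (S.residueField (f x)) K)) ≫ S.fromSpecResidueField (f x)
    obtain ⟨z, hz, -⟩ := Scheme.Pullback.exists_preimage_pullback (f := f) (g := s) x
      (default : PrimeSpectrum K) ((Scheme.fromSpecResidueField_apply _ _).symm.trans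
        (Scheme.Hom.comp_apply _ _ _).symm)
    haveI := (formallyUnramified_field_iff K (pullback.snd f s)).mpr (H K s)
    rw [← hz, ← AlgSpLib.mem_locus_baseChange_iff (IsPullback.of_hasPullback _ _) z,
      (locus_eq_univ_iff _).mpr inferInstance]
    trivial

end UnrStalkLib

end
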