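import Groth.Agent.AlgSpLib.UnrLocusBC
import Groth.Prelude.Def_ega3

/-!
# The unramified locus through stalks and fibres
-/

set_option autoImplicit false
universe u
open CategoryTheory CategoryTheory.Limits AlgebraicGeometry TopologicalSpace IsLocalRing
open RichLib.UnrLocus

noncomputable section

namespace UnrStalkLib

variable {X Y : Scheme.{u}} (f : X ⟶ Y)

theorem stalkMap_of_mem_locus {x : X} (h : x ∈ locus f) : (f.stalkMap x).hom.FormallyUnramified := by
  obtain ⟨U, hxU, hU⟩ := h
  have h := AlgebraicGeometry.FormallyUnramified.stalkMap (U.ι ≫ f) ⟨x, hxU⟩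
  rw [Scheme.Hom.stalkMap_comp] at h
  exact (RingHom.FormallyUnramified.respectsIso.cancel_right_isIso (f.stalkMap (U.ι ⟨x, hxU⟩))
    (U.ι.stalkMap ⟨x, hxU⟩)).mp h

variable [LocallyOfFiniteType f]

theorem mem_locus_of_stalkMap {x : X} (h : (f.stalkMap x).hom.FormallyUnramified) : x ∈ locus f := by
  obtain ⟨U, hU, hxU, -⟩ := exists_isAffineOpen_mem_and_subset (X := Y) (U := ⊤) (x := f x) trivial
  obtain ⟨V, hV, hxV, hVU⟩ := exists_isAffineOpen_mem_and_subset (X := X) (U := f ⁻¹ᵁ U) (x := x) hxU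
  let := (f.appLE U V hVU).hom.toAlgebra
  haveI : Algebra.FiniteType Γ(Y, U) Γ(X, V) := f.finiteType_appLE hU hV hVU
  let p := (hU.primeIdealOf ⟨f x, hVU hxV⟩).asIdeal
  let q := (hV.primeIdealOf ⟨x, hxV⟩).asIdeal
  have : q.LiesOver p :=
    ⟨congr($(IsAffineOpen.comap_primeIdealOf_appLE U hU V hV hVU hxV).1).symm⟩
  let := Localization.AtPrime.algebraOfLiesOver p q
  have h1 : Algebra.FormallyUnramified (Localization.AtPrime p) (Localization.AtPrime q) :=
    RingHom.formallyUnramified_algebraMap.mp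
      ((RingHom.FormallyUnramified.respectsIso.arrow_mk_iso_iff
        (IsAffineOpen.arrowStalkMapIso f U hU V hV hVU hxV)).mp h)
  have hq : hV.primeIdealOf ⟨x, hxV⟩ ∈ Algebra.unramifiedLocus Γ(Y, U) Γ(X, V) :=
    Algebra.FormallyUnramified.comp Γ(Y, U) (Localization.AtPrime p) (Localization.AtPrime q)
  let z : Spec Γ(X, V) := hV.primeIdealOf ⟨x, hxV⟩
  have hz : z ∈ locus (Spec.map (CommRingCat.ofHom (algebraMap Γ(Y, U) Γ(X, V)))) := (mem_locus_spec_iff _).mpr hq
  have hzx : hV.fromSpec z = x := hV.fromSpec_primeIdealOf ⟨x, hxV⟩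
  rw [← hzx, ← mem_locus_comp_left_iff]
  erw [← hU.SpecMap_appLE_fromSpec f hV hVU, mem_locus_comp_right_iff]
  exact hz

theorem mem_locus_iff_stalkMap (x : X) : x ∈ locus f ↔ (f.stalkMap x).hom.FormallyUnramified :=
  ⟨stalkMap_of_mem_locus f, mem_locus_of_stalkMap f⟩

theorem stalkMap_formallyUnramified_iff (x : X) :
    (f.stalkMap x).hom.FormallyUnramified ↔
      ((maximalIdeal (Y.presheaf.stalk (f x))).map (f.stalkMap x).hom = maximalIdeal (X.presheaf.stalk x) ∧
        letI := (f.residueFieldMap x).hom.toAlgebra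
        Module.Finite (Y.residueField (f x)) (X.residueField x) ∧
          Algebra.IsSeparable (Y.residueField (f x)) (X.residueField x)) := by
  let := (f.stalkMap x).hom.toAlgebra
  have : IsLocalHom (algebraMap (Y.presheaf.stalk (f x)) (X.presheaf.stalk x)) :=
    inferInstanceAs <| IsLocalHom (f.stalkMap x).hom
  have : Algebra.EssFiniteType (Y.presheaf.stalk (f x)) (X.presheaf.stalk x) := by
    rw [← RingHom.essFiniteType_algebraMap, RingHom.algebraMap_toAlgebra]
    exact LocallyOfFiniteType.stalkMap f x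
  have e : (f.residueFieldMap x).hom.toAlgebra =
      (inferInstance : Algebra (ResidueField (Y.presheaf.stalk (f x))) (ResidueField (X.presheaf.stalk x))) := by
    refine Algebra.algebra_ext _ _ fun r => ?_
    obtain ⟨r, rfl⟩ := IsLocalRing.residue_surjective r
    rfl
  rw [e]
  change Algebra.FormallyUnramified (Y.presheaf.stalk (f x)) (X.presheaf.stalk x) ↔ _ ∧
    Module.Finite (ResidueField (Y.presheaf.stalk (f x))) (ResidueField (X.presheaf.stalk x)) ∧
      Algebra.IsSeparable (ResidueField (Y.presheaf.stalk (f x))) (ResidueField (X.presheaf.stalk x))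
  constructor
  · intro h
    obtain ⟨h1, h2⟩ := Algebra.FormallyUnramified.iff_map_maximalIdeal_eq.mp h
    exact ⟨h2, inferInstance, h1⟩
  · rintro ⟨h2, -, h1⟩
    exact Algebra.FormallyUnramified.iff_map_maximalIdeal_eq.mpr ⟨h1, h2⟩

omit [LocallyOfFiniteType f] in
theorem isPullback_fiberMapOver {S : Scheme.{u}} (g : Y ⟶ S) (h : X ⟶ S) (w : f ≫ g = h) (s : S) :
    IsPullback (h.fiberι s) (CohIII.fiberMapOver f h g w s) f (g.fiberι s) := by
  have h1 : CohIII.fiberMapOver f h g w s ≫ g.fiberToSpecResidueField s = h.fiberToSpecResidueField s :=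
    (pullback.lift_snd _ _ _).trans (Category.comp_id _)
  refine IsPullback.of_bot (v₂₁ := g.fiberToSpecResidueField s) (v₂₂ := g)
    (h₃₁ := S.fromSpecResidueField s) ?_ (pullback.lift_fst _ _ _).symm (IsPullback.of_hasPullback _ _)
  rw [h1, w]
  exact IsPullback.of_hasPullback _ _

theorem mem_locus_fiberMapOver_iff {S : Scheme.{u}} (g : Y ⟶ S) (h : X ⟶ S) (w : f ≫ g = h) (s : S)
    (x' : h.fiber s) : x' ∈ locus (CohIII.fiberMapOver f h g w s) ↔ h.fiberι s x' ∈ locus f :=
  AlgSpLib.mem_locus_baseChange_iff (isPullback_fiberMapOver f g h w s) x'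

theorem formallyUnramified_iff_fibres {S : Scheme.{u}} (g : Y ⟶ S) :
    FormallyUnramified f ↔ ∀ s : S, FormallyUnramified (pullback.snd f (g.fiberι s)) := by
  refine ⟨fun hf s => MorphismProperty.pullback_snd f (g.fiberι s) hf, fun H => (locus_eq_univ_iff f).mp (Set.eq_univ_iff_forall.mpr fun x => ?_)⟩
  obtain ⟨z, hz, -⟩ := Scheme.Pullback.exists_preimage_pullback (f := f) (g := g.fiberι (g (f x))) x
    (g.asFiber (f x)) (g.fiberι_asFiber (f x)).symm
  rw [← hz, ← AlgSpLib.mem_locus_baseChange_iff (IsPullback.of_hasPullback _ _) z,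
    (locus_eq_univ_iff _).mpr (H _)]
  trivial

end UnrStalkLib

end
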